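import Mathlib.RingTheory.Length
import Mathlib.RingTheory.Nakayama
import Mathlib.RingTheory.Localization.AtPrime.Basic
import Mathlib.RingTheory.Noetherian.Basic
import Mathlib.RingTheory.Ideal.Quotient.Operations
import Mathlib.Data.ENat.Basic

/-!
The monomial property in dimension two, by comparing lengths.
-/

universe u

namespace GrothLib.AffCompl

variable {A : Type u} [CommRing A]

/-- The length of `A ⧸ I`. -/
noncomputable abbrev len (I : Ideal A) : ℕ∞ := Module.length A (A ⧸ I)

theorem len_mono {I J : Ideal A} (h : I ≤ J) : len J ≤ len I :=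
  Module.length_le_of_surjective (Submodule.factor h) (Submodule.factor_surjective h)

theorem length_add_one_le {P : Type*} [AddCommGroup P] [Module A P] (S : Submodule A P) (h : S ≠ ⊤) :
    Module.length A S + 1 ≤ Module.length A P := by
  rw [Module.length_eq_add_of_exact S.subtype S.mkQ S.injective_subtype S.mkQ_surjective
    (LinearMap.exact_subtype_mkQ S)]
  refine add_le_add le_rfl ?_
  rw [Order.one_le_iff_pos, Module.length_pos_iff, Submodule.Quotient.nontrivial_iff]
  exact h

theorem len_sup_mul_le_of (I I' : Ideal A) (a b : A) (hI' : ∀ z ∈ I', a * z ∈ I ⊔ Ideal.span {a * b}) :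
    len (I ⊔ Ideal.span {a * b}) ≤ len (I ⊔ Ideal.span {a}) + len (I' ⊔ Ideal.span {b}) := by
  let P := A ⧸ (I ⊔ Ideal.span {a * b})
  let f : (A ⧸ (I' ⊔ Ideal.span {b})) →ₗ[A] P :=
    Submodule.mapQ _ _ (LinearMap.mul A A a) (by
      rw [sup_le_iff, Submodule.span_le, Set.singleton_subset_iff]
      exact ⟨fun z hz => hI' z hz,
        Ideal.mem_sup_right (Ideal.mem_span_singleton_self _)⟩)
  have h := Module.length_eq_add_of_exact (LinearMap.range f).subtype (LinearMap.range f).mkQ
    Subtype.val_injective (Submodule.mkQ_surjective _) (LinearMap.exact_subtype_mkQ _)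
  show Module.length A P ≤ _
  rw [h, add_comm]
  refine add_le_add ?_ (Module.length_le_of_surjective f.rangeRestrict f.surjective_rangeRestrict)
  let g : A →ₗ[A] P ⧸ LinearMap.range f := (LinearMap.range f).mkQ.comp (I ⊔ Ideal.span {a * b}).mkQ
  have hg : I ⊔ Ideal.span {a} ≤ LinearMap.ker g := by
    rw [sup_le_iff, Submodule.span_le, Set.singleton_subset_iff]
    refine ⟨fun z hz => ?_, ?_⟩
    · show (LinearMap.range f).mkQ ((I ⊔ Ideal.span {a * b}).mkQ z) = 0
      rw [show (I ⊔ Ideal.span {a * b}).mkQ z = 0 from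
        (Submodule.Quotient.mk_eq_zero _).mpr (Ideal.mem_sup_left hz), map_zero]
    · refine (Submodule.Quotient.mk_eq_zero _).mpr ⟨Submodule.Quotient.mk 1, ?_⟩
      show Submodule.Quotient.mk (a * 1) = Submodule.Quotient.mk a
      rw [mul_one]
  refine Module.length_le_of_surjective (Submodule.liftQ _ g hg) ?_
  rw [← LinearMap.range_eq_top, Submodule.range_liftQ, LinearMap.range_eq_top]
  exact (Submodule.mkQ_surjective _).comp (Submodule.mkQ_surjective _)

theorem len_sup_mul_le (I : Ideal A) (a b : A) :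
    len (I ⊔ Ideal.span {a * b}) ≤ len (I ⊔ Ideal.span {a}) + len (I ⊔ Ideal.span {b}) :=
  len_sup_mul_le_of I I a b fun _ hz => Ideal.mem_sup_left (I.mul_mem_left a hz)

theorem len_sup_pow_le (I : Ideal A) (a : A) (n : ℕ) :
    len (I ⊔ Ideal.span {a ^ n}) ≤ n * len (I ⊔ Ideal.span {a}) := by
  induction n with
  | zero =>
    simp [len, Module.length_eq_zero_iff, Submodule.Quotient.subsingleton_iff]
  | succ n ih =>
    rw [pow_succ, Nat.cast_succ, add_mul, one_mul]
    exact (len_sup_mul_le I _ _).trans (add_le_add ih le_rfl)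

theorem len_pow_pow_le (x y : A) (i j : ℕ) :
    len (Ideal.span {x ^ i} ⊔ Ideal.span {y ^ j}) ≤
      j * (i * len (Ideal.span {x} ⊔ Ideal.span {y})) := by
  refine (len_sup_pow_le _ y j).trans (mul_le_mul_right ?_ _)
  rw [sup_comm, sup_comm (Ideal.span {x})]
  exact len_sup_pow_le _ x i

variable (x y : A)

theorem len_le_of_monomial {m : ℕ} (hm : 1 ≤ m)
    (h : x ^ (m - 1) * y ^ (m - 1) ∈ Ideal.span {x ^ m} ⊔ Ideal.span {y ^ m}) :
    len (Ideal.span {x ^ m} ⊔ Ideal.span {y ^ m}) ≤
      ((m * m - 1 : ℕ) : ℕ∞) * len (Ideal.span {x} ⊔ Ideal.span {y}) := by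
  obtain ⟨q, rfl⟩ := Nat.exists_eq_add_of_le hm
  simp only [Nat.add_sub_cancel_left] at h
  set J := Ideal.span {x ^ (1 + q)} ⊔ Ideal.span {y ^ (1 + q)}
  have h1 := len_sup_mul_le_of J (Ideal.span {x}) (x ^ q) (y ^ q) fun z hz => by
    obtain ⟨c, rfl⟩ := Ideal.mem_span_singleton'.mp hz
    exact Ideal.mem_sup_left (Ideal.mem_sup_left (Ideal.mem_span_singleton.mpr ⟨c, by ring⟩))
  rw [sup_eq_left.mpr ((Ideal.span_singleton_le_iff_mem J).mpr h)] at h1
  refine h1.trans ((add_le_add ((len_mono (sup_le le_sup_right (le_sup_right.trans le_sup_left) :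
        Ideal.span {x ^ q} ⊔ Ideal.span {y ^ (1 + q)} ≤ _)).trans (len_pow_pow_le x y q (1 + q)))
    ((len_sup_pow_le _ y q))).trans ?_)
  rw [← mul_assoc, ← add_mul, show (1 + q) * (1 + q) - 1 = (1 + q) * q + q from by
    have : (1 + q) * (1 + q) = (1 + q) * q + q + 1 := by ring
    omega]
  push_cast
  exact le_rfl

theorem sq_le_len [IsDomain A] [IsNoetherianRing A] [IsLocalRing A] {p : Ideal A} [hp : p.IsPrime]
    (hx : x ∈ p) (hx0 : x ≠ 0) (hy : y ∈ IsLocalRing.maximalIdeal A) (hyp : y ∉ p) (k : ℕ) :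
    ((k * k : ℕ) : ℕ∞) ≤ len (Ideal.span {x ^ k} ⊔ Ideal.span {y ^ k}) := by
  let L := Localization.AtPrime p
  have hyu : IsUnit (algebraMap A L y) := IsLocalization.map_units L (⟨y, hyp⟩ : p.primeCompl)
  let I : ℕ → Ideal A := fun i => ((Ideal.span {x ^ i}).map (algebraMap A L)).comap (algebraMap A L)
  have hle : ∀ i, Ideal.span {x ^ i} ≤ I i := fun i => Ideal.le_comap_map
  have hstep : ∀ i, I (i + 1) ≤ I i := fun i => Ideal.comap_mono (Ideal.map_mono
    (Ideal.span_singleton_le_span_singleton.mpr (pow_dvd_pow x i.le_succ)))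
  have hcancel : ∀ i n z, y ^ n * z ∈ I i → z ∈ I i := fun i n z h => by
    rw [Ideal.mem_comap, map_mul, map_pow] at h
    exact (Ideal.unit_mul_mem_iff_mem _ (hyu.pow n)).mp h
  have hnot : ∀ i, x ^ i ∉ I (i + 1) := fun i h => by
    rw [Ideal.mem_comap, Ideal.map_span, Set.image_singleton, Ideal.mem_span_singleton] at h
    obtain ⟨c, hc⟩ := h
    rw [map_pow, map_pow, pow_succ, mul_assoc] at hc
    have h0 : algebraMap A L x ≠ 0 :=
      (map_ne_zero_iff _ (IsLocalization.injective L p.primeCompl_le_nonZeroDivisors)).mpr hx0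
    have hxu : IsUnit (algebraMap A L x) :=
      IsUnit.of_mul_eq_one _ (mul_left_cancel₀ (pow_ne_zero i h0) (hc.symm.trans (mul_one _).symm))
    exact (IsLocalization.AtPrime.isUnit_to_map_iff L p x).mp hxu hx
  have key : ∀ i, ((k : ℕ) : ℕ∞) + len (I i ⊔ Ideal.span {y ^ k}) ≤
      len (I (i + 1) ⊔ Ideal.span {y ^ k}) := by
    intro i
    have h1 : I (i + 1) ⊔ Ideal.span {y ^ k} ≤ I i ⊔ Ideal.span {y ^ k} := sup_le_sup_right (hstep i) _
    let q : A →ₗ[A] A ⧸ (I (i + 1) ⊔ Ideal.span {y ^ k}) := Submodule.mkQ _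
    let S : Submodule A (A ⧸ (I (i + 1) ⊔ Ideal.span {y ^ k})) := Submodule.map q (I i)
    have hex := Module.length_eq_add_of_exact S.subtype S.mkQ Subtype.val_injective
      (Submodule.mkQ_surjective _) (LinearMap.exact_subtype_mkQ _)
    rw [len, len, hex]
    refine add_le_add ?_ ?_
    · -- a strictly decreasing chain in `S`
      let T : ℕ → Submodule A (A ⧸ (I (i + 1) ⊔ Ideal.span {y ^ k})) :=
        fun t => Submodule.map q (Ideal.span {y ^ t} * I i)
      have hanti : ∀ t, T (t + 1) ≤ T t := fun t => Submodule.map_mono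
        (Ideal.mul_mono_left (Ideal.span_singleton_le_span_singleton.mpr (pow_dvd_pow y t.le_succ)))
      have hne : ∀ t < k, T (t + 1) ≠ T t := by
        intro t ht heq
        refine hnot i ?_
        have hI : I i ≤ I (i + 1) ⊔ Ideal.span {y} * I i := by
          intro z hz
          have hzT : q (y ^ t * z) ∈ T (t + 1) :=
            heq ▸ Submodule.mem_map_of_mem (Ideal.mul_mem_mul (Ideal.mem_span_singleton_self _) hz)
          obtain ⟨w, hw, hwz⟩ := hzT
          obtain ⟨v, hv, rfl⟩ := Ideal.mem_span_singleton_mul.mp hw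
          rw [Submodule.mkQ_apply, Submodule.mkQ_apply, Submodule.Quotient.eq] at hwz
          obtain ⟨j, hj, u, hu, hju⟩ := Submodule.mem_sup.mp hwz
          obtain ⟨a, rfl⟩ := Ideal.mem_span_singleton'.mp hu
          obtain ⟨d, rfl⟩ := Nat.exists_eq_add_of_lt ht
          have ha : a ∈ I i := hcancel i (t + d + 1) a (by
            have : y ^ (t + d + 1) * a = (y ^ (t + 1) * v - y ^ t * z) - j := by rw [← hju]; ring
            rw [this]
            exact sub_mem (sub_mem (Ideal.mul_mem_left _ _ hv) (Ideal.mul_mem_left _ _ hz)) (hstep i hj))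
          have hj' : z - y * (v - y ^ d * a) ∈ I (i + 1) := hcancel (i + 1) t _ (by
            have : y ^ t * (z - y * (v - y ^ d * a)) = -j := by rw [eq_neg_iff_add_eq_zero]; calc _ = (j + a * y ^ (t + d + 1)) - (y ^ (t + 1) * v - y ^ t * z) := by ring
              _ = 0 := sub_eq_zero.mpr hju
            rw [this]
            exact neg_mem hj)
          refine Submodule.mem_sup.mpr ⟨_, hj', y * (v - y ^ d * a),
            Ideal.mul_mem_mul (Ideal.mem_span_singleton_self y) (sub_mem hv (Ideal.mul_mem_left _ _ ha)), ?_⟩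
          ring
        have := Submodule.le_of_le_smul_of_le_jacobson_bot (IsNoetherian.noetherian (I i))
          (show Ideal.span {y} ≤ Ideal.jacobson (⊥ : Ideal A) by
            rw [IsLocalRing.jacobson_eq_maximalIdeal ⊥ bot_ne_top, Ideal.span_le, Set.singleton_subset_iff]
            exact hy) hI
        exact this (hle i (Ideal.mem_span_singleton_self _))
      have hlen : ∀ d t, t + d = k → ((d : ℕ) : ℕ∞) ≤ Module.length A (T t) := by
        intro d
        induction d with
        | zero => exact fun _ _ => zero_le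
        | succ d ih =>
          intro t ht
          refine le_trans ?_ (length_add_one_le ((T (t + 1)).comap (T t).subtype) fun htop =>
            hne t (by omega) (le_antisymm (hanti t) (Submodule.comap_subtype_eq_top.mp htop)))
          rw [(Submodule.comapSubtypeEquivOfLe (hanti t)).length_eq, Nat.cast_succ]
          exact add_le_add (ih (t + 1) (by omega)) le_rfl
      have : T 0 = S := by simp [T, S]
      exact this ▸ hlen k 0 (zero_add k)
    · let g : (A ⧸ (I (i + 1) ⊔ Ideal.span {y ^ k})) →ₗ[A] A ⧸ (I i ⊔ Ideal.span {y ^ k}) :=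
        Submodule.factor h1
      have hg : S ≤ LinearMap.ker g := by
        rintro _ ⟨z, hz, rfl⟩
        exact (Submodule.Quotient.mk_eq_zero _).mpr (Ideal.mem_sup_left hz)
      exact Module.length_le_of_surjective (S.liftQ g hg) (by
        rw [← LinearMap.range_eq_top, Submodule.range_liftQ, LinearMap.range_eq_top]
        exact Submodule.factor_surjective h1)
  have hsum : ∀ i, ((i * k : ℕ) : ℕ∞) ≤ len (I i ⊔ Ideal.span {y ^ k}) := by
    intro i
    induction i with
    | zero => simp
    | succ i ih =>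
      rw [Nat.succ_mul, Nat.cast_add, add_comm]
      exact (add_le_add le_rfl ih).trans (key i)
  exact (hsum k).trans (len_mono (sup_le_sup_right (hle k) _))

theorem bernoulli (q i : ℕ) : q ^ i * (q + i) ≤ (q + 1) ^ i * q := by
  induction i with
  | zero => simp
  | succ i ih =>
    calc q ^ (i + 1) * (q + (i + 1)) = q ^ i * (q * (q + i + 1)) := by ring
      _ ≤ q ^ i * ((q + i) * (q + 1)) := Nat.mul_le_mul_left _ (by ring_nf; omega)
      _ = (q ^ i * (q + i)) * (q + 1) := by ring
      _ ≤ ((q + 1) ^ i * q) * (q + 1) := Nat.mul_le_mul_right _ ih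
      _ = (q + 1) ^ (i + 1) * q := by ring

theorem false_of_monomials [IsDomain A] [IsNoetherianRing A] [IsLocalRing A] {p : Ideal A} [p.IsPrime]
    (hx : x ∈ p) (hx0 : x ≠ 0) (hy : y ∈ IsLocalRing.maximalIdeal A) (hyp : y ∉ p)
    (hfin : len (Ideal.span {x} ⊔ Ideal.span {y}) ≠ ⊤) {m : ℕ} (hm : 2 ≤ m)
    (h : ∀ n, (x ^ n) ^ (m - 1) * (y ^ n) ^ (m - 1) ∈
      Ideal.span {(x ^ n) ^ m} ⊔ Ideal.span {(y ^ n) ^ m}) : False := by
  obtain ⟨l, hl⟩ := ENat.ne_top_iff_exists.mp hfin
  have hup : ∀ i, len (Ideal.span {x ^ m ^ i} ⊔ Ideal.span {y ^ m ^ i}) ≤ (((m * m - 1) ^ i * l : ℕ) : ℕ∞) := by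
    intro i
    induction i with
    | zero => simp [hl]
    | succ i ih =>
      rw [pow_succ m i, pow_mul, pow_mul]
      refine (len_le_of_monomial _ _ (by omega) (h _)).trans ((mul_le_mul_right ih _).trans ?_)
      rw [pow_succ]
      norm_cast
      exact le_of_eq (by ring)
  have hlow : ∀ i, (m * m) ^ i ≤ (m * m - 1) ^ i * l := fun i => by
    have := (sq_le_len x y hx hx0 hy hyp (m ^ i)).trans (hup i)
    rw [mul_pow]
    exact_mod_cast this
  obtain ⟨q, hq⟩ : ∃ q, m * m = q + 1 := ⟨m * m - 1, by nlinarith [Nat.sub_add_cancel (show 1 ≤ m * m by nlinarith)]⟩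
  have hq0 : 0 < q := by nlinarith
  let i := q * l + 1
  have h1 := hlow i
  rw [hq, Nat.add_sub_cancel] at h1
  have h2 := (bernoulli q i).trans (Nat.mul_le_mul_right q h1)
  rw [mul_assoc] at h2
  have h3 := Nat.le_of_mul_le_mul_left h2 (pow_pos hq0 i)
  have : i = q * l + 1 := rfl
  rw [Nat.mul_comm l q] at h3
  omega

end GrothLib.AffCompl
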