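import Groth.Agent.Lib.AffCompl.Punctured
import Groth.Agent.Lib.AssPts.Points

/-!
Generic points of the complement of an open with affine inclusion.
-/

universe u

open CategoryTheory AlgebraicGeometry TopologicalSpace

namespace GrothLib.AffCompl

variable {X : Scheme.{u}}

theorem isAffineOpen_of_eq_basicOpen {A : CommRingCat.{u}} (W : (Spec A).Opens) (t : A)
    (h : (W : Set (Spec A)) = (PrimeSpectrum.basicOpen t : Set (PrimeSpectrum A))) : IsAffineOpen W := by
  have : W = (Spec A).basicOpen ((Scheme.ΓSpecIso A).inv t) := by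
    rw [basicOpen_eq_of_affine]
    exact TopologicalSpace.Opens.ext h
  rw [this]
  exact (isAffineOpen_top _).basicOpen _

theorem mem_preimage_fromSpecStalk_iff (U : X.Opens) {ξ : X} (hξ : ξ ∉ U)
    (hgen : ∀ y : X, y ∉ U → y ⤳ ξ → y = ξ) (q : Spec (X.presheaf.stalk ξ)) :
    q ∈ X.fromSpecStalk ξ ⁻¹ᵁ U ↔ q ≠ IsLocalRing.closedPoint (X.presheaf.stalk ξ) := by
  constructor
  · rintro h rfl
    exact hξ (by simpa [Scheme.fromSpecStalk_closedPoint] using h)
  · intro hne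
    by_contra hq
    have hsp : X.fromSpecStalk ξ q ⤳ ξ := by
      have : X.fromSpecStalk ξ q ∈ Set.range (X.fromSpecStalk ξ) := ⟨q, rfl⟩
      rwa [Scheme.range_fromSpecStalk] at this
    refine hne ((X.fromSpecStalk ξ).isEmbedding.injective ?_)
    rw [Scheme.fromSpecStalk_closedPoint]
    exact hgen _ hq hsp

theorem ringKrullDim_stalk_le_one [IsLocallyNoetherian X] (U : X.Opens) [IsAffineHom U.ι] {ξ : X} (hξ : ξ ∉ U)
    (hgen : ∀ y : X, y ∉ U → y ⤳ ξ → y = ξ) : ringKrullDim (X.presheaf.stalk ξ) ≤ 1 :=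
  ringKrullDim_le_one (X.presheaf.stalk ξ) _ (mem_preimage_fromSpecStalk_iff U hξ hgen)
    (isAffineOpen_preimage_fromSpecStalk U ξ)

open GrothLib.WeakAss GrothLib.AssPts in
/-- A maximal point lies in every open whose closure contains it. -/
theorem mem_of_mem_closure_of_maximal [IsLocallyNoetherian X] (U : X.Opens) {ξ : X}
    (hmax : ∀ y : X, y ⤳ ξ → y = ξ) (hcl : ξ ∈ closure (U : Set X)) : ξ ∈ U := by
  classical
  obtain ⟨_, ⟨V, hV, rfl⟩, hξV, -⟩ :=
    X.isBasis_affineOpens.exists_subset_of_mem_open (Set.mem_univ ξ) isOpen_univ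
  have hV : IsAffineOpen V := hV
  have := IsLocallyNoetherian.component_noetherian ⟨V, hV⟩
  have hmin : primeAt ξ hξV ∈ (⊥ : Ideal Γ(X, V)).minimalPrimes := by
    refine ⟨⟨inferInstance, bot_le⟩, fun P hP hPξ => ?_⟩
    obtain ⟨y, hy, rfl⟩ := exists_point hV P hP.1
    obtain rfl := hmax y ((specializes_iff hV hy hξV).mpr hPξ)
    exact le_rfl
  let T := (Ideal.finite_minimalPrimes_of_isNoetherianRing Γ(X, V) ⊥).toFinset.erase (primeAt ξ hξV)
  obtain ⟨s, hs, hsξ⟩ : ∃ s ∈ T.inf id, s ∉ primeAt ξ hξV := by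
    by_contra! hle
    obtain ⟨Q, hQ, hQξ⟩ := (Ideal.IsPrime.inf_le' (inferInstance : (primeAt ξ hξV).IsPrime)).mp hle
    obtain ⟨hne, hQm⟩ := Finset.mem_erase.mp hQ
    exact hne (le_antisymm hQξ (hmin.2 ((Set.Finite.mem_toFinset _).mp hQm).1 hQξ))
  obtain ⟨u, hus, huU⟩ := mem_closure_iff.mp hcl _ (X.basicOpen s).2 (notMem_primeAt_iff.mp hsξ)
  have huV : u ∈ V := X.basicOpen_le s hus
  obtain ⟨Q, hQ, hQu⟩ := Ideal.exists_minimalPrimes_le (I := (⊥ : Ideal Γ(X, V))) (J := primeAt u huV) bot_le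
  have hQξ : Q = primeAt ξ hξV := by
    by_contra hne
    have hsQ : s ∈ Q := (Finset.inf_le (f := id) (Finset.mem_erase.mpr
      ⟨hne, (Set.Finite.mem_toFinset _).mpr hQ⟩)) hs
    exact (notMem_primeAt_iff (hx := huV)).mpr hus (hQu hsQ)
  exact ((specializes_iff hV hξV huV).mpr (hQξ ▸ hQu)).mem_open U.2 huU

theorem ringKrullDim_stalk_eq_one [IsLocallyNoetherian X] (U : X.Opens) [IsAffineHom U.ι] {ξ : X} (hξ : ξ ∉ U)
    (hgen : ∀ y : X, y ∉ U → y ⤳ ξ → y = ξ) (hcl : ξ ∈ closure (U : Set X)) :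
    ringKrullDim (X.presheaf.stalk ξ) = 1 := by
  refine le_antisymm (ringKrullDim_stalk_le_one U hξ hgen) ?_
  by_contra hlt
  have h0 : ringKrullDim (X.presheaf.stalk ξ) ≤ ((0 : ℕ) : WithBot ℕ∞) := by
    refine iSup_le fun l => ?_
    by_contra hl
    refine hlt (le_trans ?_ (le_iSup (fun l : LTSeries (PrimeSpectrum (X.presheaf.stalk ξ)) =>
      ((l.length : ℕ) : WithBot ℕ∞)) l))
    have : 1 ≤ l.length := by
      by_contra h
      exact hl (by exact_mod_cast (show l.length ≤ 0 by omega))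
    exact_mod_cast this
  have : Ring.KrullDimLE 0 (X.presheaf.stalk ξ) := Ring.krullDimLE_iff.mpr h0
  refine hξ (mem_of_mem_closure_of_maximal U (fun y hy => ?_) hcl)
  obtain ⟨q, rfl⟩ : y ∈ Set.range (X.fromSpecStalk ξ) := by
    rw [Scheme.range_fromSpecStalk]
    exact hy
  have hq : q = IsLocalRing.closedPoint (X.presheaf.stalk ξ) :=
    PrimeSpectrum.ext (IsLocalRing.eq_maximalIdeal (Ring.krullDimLE_zero_iff.mp this q.asIdeal q.isPrime))
  rw [hq, Scheme.fromSpecStalk_closedPoint]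

end GrothLib.AffCompl
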