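import Groth.Agent.Lib.AffCompl.Growth
import Mathlib.AlgebraicGeometry.Morphisms.Affine
import Mathlib.AlgebraicGeometry.Morphisms.OpenImmersion
import Mathlib.AlgebraicGeometry.Stalk
import Mathlib.AlgebraicGeometry.FunctionField
import Mathlib.RingTheory.Ideal.KrullsHeightTheorem
import Mathlib.RingTheory.Artinian.Ring
import Mathlib.RingTheory.HopkinsLevitzki
import Mathlib.RingTheory.KrullDimension.Basic

/-!
An open of the spectrum of a local ring with only the closed point missing is affine only in dimension `≤ 1`.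
-/

universe u

open CategoryTheory AlgebraicGeometry TopologicalSpace

namespace GrothLib.AffCompl

/-- Functions on `Spec A` restricted to an open. -/
noncomputable def toSec {A : CommRingCat.{u}} (U : (Spec A).Opens) : A →+* Γ(Spec A, U) :=
  ((Scheme.ΓSpecIso A).inv ≫ (Spec A).presheaf.map (homOfLE (le_top : U ≤ ⊤)).op).hom

theorem toSec_res {A : CommRingCat.{u}} {U V : (Spec A).Opens} (h : V ≤ U) (r : A) :
    (Spec A).presheaf.map (homOfLE h).op (toSec U r) = toSec V r := by
  show (((Scheme.ΓSpecIso A).inv ≫ (Spec A).presheaf.map (homOfLE le_top).op) ≫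
    (Spec A).presheaf.map (homOfLE h).op).hom r = _
  rw [Category.assoc, ← Functor.map_comp]
  rfl

theorem basicOpen_toSec {A : CommRingCat.{u}} (U : (Spec A).Opens) (r : A) :
    (Spec A).basicOpen (toSec U r) = U ⊓ PrimeSpectrum.basicOpen r := by
  show (Spec A).basicOpen ((Spec A).presheaf.map (homOfLE (le_top : U ≤ ⊤)).op ((Scheme.ΓSpecIso A).inv r)) = _
  rw [Scheme.basicOpen_res, basicOpen_eq_of_affine]

theorem not_isAffineOpen_two (A : CommRingCat.{u}) [IsDomain A] [IsNoetherianRing A] [IsLocalRing A]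
    {p : Ideal A} [p.IsPrime] {x y : A} (hx : x ∈ p) (hx0 : x ≠ 0)
    (hy : y ∈ IsLocalRing.maximalIdeal A) (hyp : y ∉ p)
    (hfin : ∀ Q : Ideal A, Q.IsPrime → x ∈ Q → y ∈ Q → Q = IsLocalRing.maximalIdeal A) :
    ¬ IsAffineOpen (show (Spec A).Opens from PrimeSpectrum.basicOpen x ⊔ PrimeSpectrum.basicOpen y) := by
  intro hW
  set W : (Spec A).Opens := PrimeSpectrum.basicOpen x ⊔ PrimeSpectrum.basicOpen y with hWdef
  have hy0 : y ≠ 0 := fun h => hyp (h ▸ zero_mem p)
  have hne : ∀ {r : A}, r ≠ 0 → Nonempty (show (Spec A).Opens from PrimeSpectrum.basicOpen r) := fun {r} hr =>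
    ⟨⟨⟨⊥, Ideal.isPrime_bot⟩, fun h => hr (Ideal.mem_bot.mp h)⟩⟩
  have := hne hx0
  have := hne hy0
  have hint : IsIntegral (Spec A) := inferInstance
  have hpole : ∀ r : A, r ≠ 0 → ((PrimeSpectrum.basicOpen r : (Spec A).Opens) ≤ W) → ∀ a : Γ(Spec A, W),
      ∃ s : ℕ, toSec W r ^ s * a ∈ (toSec W).range := by
    intro r hr hle a
    have := hne hr
    let V : (Spec A).Opens := PrimeSpectrum.basicOpen r
    have : IsLocalization.Away r Γ(Spec A, V) :=
      inferInstanceAs (IsLocalization.Away r Γ(Spec A, PrimeSpectrum.basicOpen r))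
    obtain ⟨⟨α, _, s, rfl⟩, h⟩ := IsLocalization.surj (Submonoid.powers r)
      ((Spec A).presheaf.map (homOfLE (show V ≤ W from hle)).op a)
    refine ⟨s, α, map_injective_of_isIntegral (Spec A) (homOfLE (show V ≤ W from hle)) ?_⟩
    rw [map_mul, map_pow, toSec_res, toSec_res, ← map_pow, mul_comm]
    exact h.symm
  have hinj : Function.Injective (toSec W) := by
    intro r r' h
    have h' := congrArg ((Spec A).presheaf.map (homOfLE (show (PrimeSpectrum.basicOpen x : (Spec A).Opens) ≤ W from le_sup_left)).op) h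
    replace h' := (toSec_res _ r).symm.trans (h'.trans (toSec_res _ r'))
    let V : (Spec A).Opens := PrimeSpectrum.basicOpen x
    have : IsLocalization.Away x Γ(Spec A, V) :=
      inferInstanceAs (IsLocalization.Away x Γ(Spec A, PrimeSpectrum.basicOpen x))
    exact IsLocalization.injective Γ(Spec A, V) (powers_le_nonZeroDivisors_of_noZeroDivisors hx0) h'
  -- elements of bounded pole order
  let G : ℕ → Γ(Spec A, W) → Prop := fun N z =>
    toSec W x ^ N * z ∈ (toSec W).range ∧ toSec W y ^ N * z ∈ (toSec W).range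
  have hr : ∀ r : A, toSec W r ∈ (toSec W).range := fun r => ⟨r, rfl⟩
  have hGmono : ∀ {M N z}, M ≤ N → G M z → G N z := fun {M N z} h hz => by
    obtain ⟨d, rfl⟩ := Nat.exists_eq_add_of_le h
    refine ⟨?_, ?_⟩ <;> rw [pow_add, mul_comm (_ ^ M), mul_assoc] <;>
      refine mul_mem (pow_mem (hr _) _) ?_
    exacts [hz.1, hz.2]
  have hGmul : ∀ {M N z w}, G M z → G N w → G (M + N) (z * w) := fun {M N z w} hz hw =>
    ⟨by rw [pow_add, mul_mul_mul_comm]; exact mul_mem hz.1 hw.1,
      by rw [pow_add, mul_mul_mul_comm]; exact mul_mem hz.2 hw.2⟩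
  have hGA : ∀ {z}, z ∈ (toSec W).range → G 0 z := fun hz => ⟨by simpa using hz, by simpa using hz⟩
  have hspan : Ideal.span ({toSec W x, toSec W y} : Set Γ(Spec A, W)) = ⊤ := by
    rw [← hW.self_le_iSup_basicOpen_iff]
    intro q hq
    rcases hq with h | h
    · exact Opens.mem_iSup.mpr ⟨⟨toSec W x, Set.mem_insert _ _⟩, by
        rw [basicOpen_toSec]; exact ⟨Or.inl h, h⟩⟩
    · exact Opens.mem_iSup.mpr ⟨⟨toSec W y, Set.mem_insert_of_mem _ rfl⟩, by
        rw [basicOpen_toSec]; exact ⟨Or.inr h, h⟩⟩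
  obtain ⟨a, b, hab⟩ := Ideal.mem_span_pair.mp ((Ideal.eq_top_iff_one _).mp hspan)
  obtain ⟨s1, h1⟩ := hpole x hx0 le_sup_left a
  obtain ⟨s2, h2⟩ := hpole y hy0 le_sup_right a
  obtain ⟨s3, h3⟩ := hpole x hx0 le_sup_left b
  obtain ⟨s4, h4⟩ := hpole y hy0 le_sup_right b
  obtain ⟨s, hs⟩ : ∃ s, s = s1 + s2 + s3 + s4 + 1 := ⟨_, rfl⟩
  have lift : ∀ {r : A} {t : ℕ} {z}, t ≤ s → toSec W r ^ t * z ∈ (toSec W).range →
      toSec W r ^ s * z ∈ (toSec W).range := fun {r t z} h hz => by
    obtain ⟨d, hd⟩ := Nat.exists_eq_add_of_le h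
    rw [hd, pow_add, mul_comm (_ ^ t), mul_assoc]
    exact mul_mem (pow_mem (hr _) _) hz
  have hGa : G s a := ⟨lift (by omega) h1, lift (by omega) h2⟩
  have hGb : G s b := ⟨lift (by omega) h3, lift (by omega) h4⟩
  have hGone : G 0 (1 : Γ(Spec A, W)) := hGA (one_mem _)
  have hGpow : ∀ {z}, G s z → ∀ i, G (i * s) (z ^ i) := fun {z} hz i => by
    induction i with
    | zero => simpa using hGone
    | succ i ih => rw [Nat.succ_mul, pow_succ]; exact hGmul ih hz
  refine false_of_monomials x y hx hx0 hy hyp ?_ (m := 2 * s + 1) (by omega) fun n => ?_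
  · let I : Ideal A := Ideal.span {x} ⊔ Ideal.span {y}
    have : IsArtinianRing (A ⧸ I) := by
      rw [isArtinianRing_iff_krullDimLE_zero, Ring.krullDimLE_zero_iff]
      intro Q hQ
      have hQ' : (Q.comap (Ideal.Quotient.mk I)) = IsLocalRing.maximalIdeal A := by
        refine hfin _ (hQ.comap _) ?_ ?_ <;> rw [Ideal.mem_comap]
        · rw [Ideal.Quotient.eq_zero_iff_mem.mpr (Ideal.mem_sup_left (Ideal.mem_span_singleton_self x))]
          exact zero_mem _
        · rw [Ideal.Quotient.eq_zero_iff_mem.mpr (Ideal.mem_sup_right (Ideal.mem_span_singleton_self y))]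
          exact zero_mem _
      rw [← Ideal.map_comap_of_surjective _ Ideal.Quotient.mk_surjective Q]
      refine (Ideal.map_eq_top_or_isMaximal_of_surjective _ Ideal.Quotient.mk_surjective
        (hQ' ▸ IsLocalRing.maximalIdeal.isMaximal A)).resolve_left fun h => hQ.ne_top ?_
      rw [← Ideal.map_comap_of_surjective _ Ideal.Quotient.mk_surjective Q]
      exact h
    refine Module.length_ne_top_iff.mpr (isFiniteLength_iff_isNoetherian_isArtinian.mpr ⟨inferInstance, ?_⟩)
    exact isArtinian_of_surjective_algebraMap (S := A) (R := A ⧸ I) Ideal.Quotient.mk_surjective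
  · have hT : ∀ i ∈ Finset.range (2 * n + 1), ∃ p q, G (2 * n * s) p ∧ G (2 * n * s) q ∧
        (toSec W x * a) ^ i * (toSec W y * b) ^ (2 * n - i) * ((2 * n).choose i : Γ(Spec A, W)) =
          toSec W x ^ n * p + toSec W y ^ n * q := by
      intro i hi
      rw [Finset.mem_range] at hi
      obtain ⟨j, hj⟩ := Nat.exists_eq_add_of_le (show i ≤ 2 * n by omega)
      have hc : G 0 (((2 * n).choose i : Γ(Spec A, W))) := hGA (natCast_mem _ _)
      have hg : G (2 * n * s) (a ^ i * b ^ j * ((2 * n).choose i : Γ(Spec A, W))) := by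
        exact hGmono (le_of_eq (by rw [hj, add_mul, Nat.add_zero])) (hGmul (hGmul (hGpow hGa i) (hGpow hGb j)) hc)
      have hz : G (2 * n * s) 0 := ⟨by rw [mul_zero]; exact zero_mem _, by rw [mul_zero]; exact zero_mem _⟩
      have hA : ∀ (r : A) (z : Γ(Spec A, W)), G (2 * n * s) z → G (2 * n * s) (toSec W r * z) :=
        fun r z hz => by
          have := hGmul (hGA (hr r)) hz
          rwa [Nat.zero_add] at this
      rw [show 2 * n - i = j by omega]
      rcases le_total n i with h | h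
      · obtain ⟨d, rfl⟩ := Nat.exists_eq_add_of_le h
        refine ⟨toSec W (x ^ d * y ^ j) * (a ^ (n + d) * b ^ j * ((2 * n).choose (n + d) : Γ(Spec A, W))), 0,
          hA _ _ hg, hz, ?_⟩
        rw [map_mul, map_pow, map_pow]
        ring
      · obtain ⟨d, rfl⟩ := Nat.exists_eq_add_of_le (show n ≤ j by omega)
        refine ⟨0, toSec W (x ^ i * y ^ d) * (a ^ i * b ^ (n + d) * ((2 * n).choose i : Γ(Spec A, W))),
          hz, hA _ _ hg, ?_⟩
        rw [map_mul, map_pow, map_pow]
        ring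
    choose! p q hp hq hpq using hT
    have hone : (1 : Γ(Spec A, W)) = toSec W x ^ n * (∑ i ∈ Finset.range (2 * n + 1), p i) +
        toSec W y ^ n * (∑ i ∈ Finset.range (2 * n + 1), q i) := by
      rw [Finset.mul_sum, Finset.mul_sum, ← Finset.sum_add_distrib]
      calc (1 : Γ(Spec A, W)) = (toSec W x * a + toSec W y * b) ^ (2 * n) := by
            rw [show toSec W x * a + toSec W y * b = 1 by rw [← hab]; ring, one_pow]
        _ = _ := by rw [add_pow]; exact Finset.sum_congr rfl hpq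
    obtain ⟨P, hP⟩ : toSec W y ^ (2 * n * s) * (∑ i ∈ Finset.range (2 * n + 1), p i) ∈ (toSec W).range := by
      rw [Finset.mul_sum]
      exact sum_mem fun i hi => (hp i hi).2
    obtain ⟨Q, hQ⟩ : toSec W x ^ (2 * n * s) * (∑ i ∈ Finset.range (2 * n + 1), q i) ∈ (toSec W).range := by
      rw [Finset.mul_sum]
      exact sum_mem fun i hi => (hq i hi).1
    have key : x ^ (2 * n * s) * y ^ (2 * n * s) =
        x ^ (2 * n * s + n) * P + y ^ (2 * n * s + n) * Q := by
      refine hinj ?_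
      rw [map_mul, map_add, map_mul, map_mul, map_pow, map_pow, map_pow, map_pow, hP, hQ]
      conv_lhs => rw [← mul_one (toSec W x ^ (2 * n * s) * toSec W y ^ (2 * n * s)), hone]
      ring
    rw [← pow_mul, ← pow_mul, ← pow_mul, ← pow_mul, show 2 * s + 1 - 1 = 2 * s by omega,
      show n * (2 * s) = 2 * n * s by ring, show n * (2 * s + 1) = 2 * n * s + n by ring, key]
    exact Submodule.mem_sup.mpr ⟨_, Ideal.mem_span_singleton.mpr (dvd_mul_right _ _), _,
      Ideal.mem_span_singleton.mpr (dvd_mul_right _ _), rfl⟩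

/-- If the punctured spectrum of a noetherian local ring is affine, its dimension is at most one. -/
theorem ringKrullDim_le_one (A : CommRingCat.{u}) [IsNoetherianRing A] [IsLocalRing A] (W : (Spec A).Opens)
    (hW : ∀ q : Spec A, q ∈ W ↔ q ≠ IsLocalRing.closedPoint A) (hWa : IsAffineOpen W) :
    ringKrullDim A ≤ 1 := by
  classical
  by_contra hlt
  let S : Set (Ideal A) := {q | q.IsPrime ∧ ∃ p₁ p₂ : Ideal A, p₁.IsPrime ∧ p₂.IsPrime ∧ q < p₁ ∧ p₁ < p₂}
  have hS : S.Nonempty := by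
    obtain ⟨l, hl⟩ : ∃ l : LTSeries (PrimeSpectrum A), 2 ≤ l.length := by
      by_contra! h
      refine hlt (iSup_le fun l => ?_)
      exact_mod_cast Nat.le_of_lt_succ (h l)
    exact ⟨(l ⟨0, by omega⟩).asIdeal, (l ⟨0, by omega⟩).isPrime, (l ⟨1, by omega⟩).asIdeal,
      (l ⟨2, by omega⟩).asIdeal, (l _).isPrime, (l _).isPrime,
      l.strictMono (by simp [Fin.lt_def]), l.strictMono (by simp [Fin.lt_def])⟩
  obtain ⟨q, hqS, hqmax⟩ := set_has_maximal_iff_noetherian.mpr ‹_› S hS
  obtain ⟨hqp, p₁, p₂, hp₁, hp₂, hq₁, h₁₂⟩ := hqS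
  have hmle : p₂ ≤ IsLocalRing.maximalIdeal A := IsLocalRing.le_maximalIdeal hp₂.ne_top
  let A' : CommRingCat.{u} := CommRingCat.of (A ⧸ q)
  let π : A →+* A' := Ideal.Quotient.mk q
  have hπ : Function.Surjective π := Ideal.Quotient.mk_surjective
  have : Nontrivial (A ⧸ q) := Ideal.Quotient.nontrivial_iff.mpr hqp.ne_top
  have : IsLocalRing A' := IsLocalRing.of_surjective' π hπ
  have : IsDomain A' := inferInstanceAs (IsDomain (A ⧸ q))
  have : IsNoetherianRing A' := inferInstanceAs (IsNoetherianRing (A ⧸ q))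
  have hker : ∀ P : Ideal A', q ≤ P.comap π := fun P z hz => by
    rw [Ideal.mem_comap, show π z = 0 from Ideal.Quotient.eq_zero_iff_mem.mpr hz]
    exact zero_mem _
  have hcmax : (IsLocalRing.maximalIdeal A').comap π = IsLocalRing.maximalIdeal A :=
    IsLocalRing.eq_maximalIdeal (Ideal.comap_isMaximal_of_surjective π hπ)
  -- a chain of length two in the quotient
  have hP₁ : (p₁.map π).IsPrime := Ideal.map_isPrime_of_surjective hπ (by
    rw [Ideal.mk_ker]; exact hq₁.le)
  have hP₁c : (p₁.map π).comap π = p₁ := Ideal.comap_map_mk hq₁.le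
  obtain ⟨z, hz, hzq⟩ := SetLike.exists_of_lt hq₁
  have hx0 : π z ≠ 0 := fun h => hzq (Ideal.Quotient.eq_zero_iff_mem.mp h)
  have hstep : ∀ P Q : Ideal A', P.IsPrime → Q.IsPrime → P ≠ ⊥ → P < Q → Q = IsLocalRing.maximalIdeal A' := by
    intro P Q hP hQ hP0 hPQ
    by_contra hne
    have hlt' : Q < IsLocalRing.maximalIdeal A' := lt_of_le_of_ne (IsLocalRing.le_maximalIdeal hQ.ne_top) hne
    have hlift : ∀ {a b : Ideal A'}, a < b → a.comap π < b.comap π := fun {a b} h =>
      lt_of_le_of_ne (Ideal.comap_mono h.le) fun e => h.ne (Ideal.comap_injective_of_surjective π hπ e)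
    refine hqmax (P.comap π) ⟨hP.comap π, Q.comap π, _, hQ.comap π,
      (IsLocalRing.maximalIdeal.isMaximal A').isPrime.comap π, hlift hPQ, hlift hlt'⟩ ?_
    refine lt_of_le_of_ne (hker P) fun e => hP0 ?_
    rw [← Ideal.map_comap_of_surjective π hπ P, ← e, Ideal.map_quotient_self]
  obtain ⟨p, hpmin, hpx⟩ := Ideal.exists_minimalPrimes_le (I := Ideal.span {π z}) (J := p₁.map π)
    ((Ideal.span_singleton_le_iff_mem _).mpr (Ideal.mem_map_of_mem π hz))
  have hP₁m : p₁.map π < IsLocalRing.maximalIdeal A' := by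
    refine lt_of_le_of_ne (IsLocalRing.le_maximalIdeal hP₁.ne_top) fun e => ?_
    rw [e, hcmax] at hP₁c
    exact (h₁₂.trans_le hmle).ne hP₁c.symm
  have hmin_ne : ∀ P ∈ (Ideal.span {π z}).minimalPrimes, P ≠ IsLocalRing.maximalIdeal A' := by
    intro P hP e
    subst e
    exact hP₁m.not_ge (hP.2 ⟨hP₁, (Ideal.span_singleton_le_iff_mem _).mpr (Ideal.mem_map_of_mem π hz)⟩ hP₁m.le)
  obtain ⟨y, hy, hymin⟩ : ∃ y ∈ IsLocalRing.maximalIdeal A', ∀ P ∈ (Ideal.span {π z}).minimalPrimes, y ∉ P := by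
    by_contra! h
    have hfinite := (Ideal.span {π z}).finite_minimalPrimes_of_isNoetherianRing A'
    have hsub : (IsLocalRing.maximalIdeal A' : Set A') ⊆ ⋃ P ∈ (hfinite.toFinset : Set (Ideal A')), (P : Set A') := by
      intro y hy
      obtain ⟨P, hP, hyP⟩ := h y hy
      exact Set.mem_biUnion (by simpa using hP) hyP
    obtain ⟨P, hP, hle⟩ := (Ideal.subset_union_prime ⊥ ⊥
      (fun P hP _ _ => ((hfinite.mem_toFinset.mp hP).1.1))).mp hsub
    have hP := hfinite.mem_toFinset.mp hP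
    exact hmin_ne P hP ((IsLocalRing.maximalIdeal.isMaximal A').eq_of_le hP.1.1.ne_top hle).symm
  have : p.IsPrime := hpmin.1.1
  have hfin : ∀ Q : Ideal A', Q.IsPrime → π z ∈ Q → y ∈ Q → Q = IsLocalRing.maximalIdeal A' := by
    intro Q hQ hxQ hyQ
    obtain ⟨P, hP, hPQ⟩ := Ideal.exists_minimalPrimes_le (J := Q) ((Ideal.span_singleton_le_iff_mem Q).mpr hxQ)
    refine hstep P Q hP.1.1 hQ (fun e => hx0 ?_) (lt_of_le_of_ne hPQ fun e => hymin P hP (e ▸ hyQ))
    exact Ideal.mem_bot.mp (e ▸ hP.1.2 (Ideal.mem_span_singleton_self _))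
  refine not_isAffineOpen_two A' (hpmin.1.2 (Ideal.mem_span_singleton_self _)) hx0 hy (hymin p hpmin) hfin ?_
  have : IsAffineHom (Spec.map (CommRingCat.ofHom π)) := inferInstance
  have hpre := hWa.preimage (Spec.map (CommRingCat.ofHom π))
  convert! hpre using 1
  ext Q
  show Q ∈ (PrimeSpectrum.basicOpen (π z) ⊔ PrimeSpectrum.basicOpen y : Opens (PrimeSpectrum A')) ↔
    (Spec.map (CommRingCat.ofHom π) Q) ∈ W
  rw [hW]
  show (π z ∉ Q.asIdeal ∨ y ∉ Q.asIdeal) ↔ _
  constructor
  · intro h e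
    have e' : Q.asIdeal.comap π = IsLocalRing.maximalIdeal A := congrArg PrimeSpectrum.asIdeal e
    have hQm : Q.asIdeal = IsLocalRing.maximalIdeal A' :=
      Ideal.comap_injective_of_surjective π hπ (e'.trans hcmax.symm)
    rcases h with h | h <;> refine h (hQm ▸ ?_)
    exacts [IsLocalRing.le_maximalIdeal hpmin.1.1.ne_top (hpmin.1.2 (Ideal.mem_span_singleton_self _)), hy]
  · intro h
    by_contra h'
    push Not at h'
    refine h (PrimeSpectrum.ext ?_)
    show Q.asIdeal.comap π = IsLocalRing.maximalIdeal A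
    rw [hfin Q.asIdeal Q.isPrime h'.1 h'.2, hcmax]

/-- An open of the spectrum of a noetherian local ring of dimension at most one is principal. -/
theorem exists_eq_basicOpen (A : CommRingCat.{u}) [IsNoetherianRing A] [IsLocalRing A] (hA : ringKrullDim A ≤ 1)
    (W : (Spec A).Opens) : ∃ t : A, (W : Set (Spec A)) = (PrimeSpectrum.basicOpen t : Set (PrimeSpectrum A)) := by
  classical
  by_cases hm : IsLocalRing.closedPoint A ∈ W
  · refine ⟨1, ?_⟩
    rw [show (PrimeSpectrum.basicOpen (1 : A) : Opens (PrimeSpectrum A)) = ⊤ from PrimeSpectrum.basicOpen_one]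
    exact Set.eq_univ_of_forall fun q =>
      ((IsLocalRing.specializes_closedPoint q).mem_open W.2 hm : q ∈ W)
  have hfin : (W : Set (Spec A)).Finite := by
    refine Set.Finite.of_finite_image (f := fun q : PrimeSpectrum A => q.asIdeal) ?_
      (fun a _ b _ h => PrimeSpectrum.ext h)
    refine (Ideal.finite_minimalPrimes_of_isNoetherianRing A ⊥).subset ?_
    rintro _ ⟨(q : PrimeSpectrum A), hq, rfl⟩
    refine ⟨⟨q.isPrime, bot_le⟩, fun P hP hPq => ?_⟩
    by_contra hne
    have h1 : (⟨P, hP.1⟩ : PrimeSpectrum A) < q := lt_of_le_not_ge hPq fun h => hne h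
    have h2 : LT.lt (α := PrimeSpectrum A) q (IsLocalRing.closedPoint A) :=
      lt_of_le_of_ne (IsLocalRing.le_maximalIdeal q.isPrime.ne_top) fun e => hm (e ▸ hq)
    have h2' := Order.LTSeries.length_le_krullDim
      (((RelSeries.singleton _ (⟨P, hP.1⟩ : PrimeSpectrum A)).snoc q h1).snoc (IsLocalRing.closedPoint A) (by simpa using h2))
    have h3 : ((2 : ℕ) : WithBot ℕ∞) ≤ 1 := le_trans (by exact_mod_cast h2') hA
    exact absurd h3 (by norm_cast)
  let I : Ideal A := PrimeSpectrum.vanishingIdeal ((W : Set (Spec A))ᶜ)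
  have hI : PrimeSpectrum.zeroLocus (I : Set A) = (W : Set (Spec A))ᶜ := by
    exact (PrimeSpectrum.zeroLocus_vanishingIdeal_eq_closure _).trans (IsClosed.closure_eq W.2.isClosed_compl)
  obtain ⟨t, htI, ht⟩ : ∃ t ∈ I, ∀ q ∈ W, t ∉ (q : PrimeSpectrum A).asIdeal := by
    by_contra! h
    have hsub : (I : Set A) ⊆ ⋃ P ∈ ((hfin.toFinset.image fun q : PrimeSpectrum A => q.asIdeal : Finset (Ideal A)) : Set (Ideal A)), (P : Set A) := by
      intro t ht
      obtain ⟨q, hq, htq⟩ := h t ht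
      exact Set.mem_biUnion (by simpa using ⟨q, hfin.mem_toFinset.mpr hq, rfl⟩) htq
    obtain ⟨P, hP, hle⟩ := (Ideal.subset_union_prime ⊥ ⊥ (fun P hP _ _ => by
      obtain ⟨q, -, rfl⟩ := Finset.mem_image.mp hP
      exact q.isPrime)).mp hsub
    obtain ⟨q, hq, rfl⟩ := Finset.mem_image.mp hP
    have : q ∈ PrimeSpectrum.zeroLocus (I : Set A) := hle
    rw [hI] at this
    exact this (hfin.mem_toFinset.mp hq)
  refine ⟨t, Set.ext fun q => ⟨fun hq => ht q hq, fun hq => ?_⟩⟩
  by_contra hqW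
  exact hq ((PrimeSpectrum.mem_vanishingIdeal _ _).mp htI q hqW)

/-- A finite open-avoiding point: the preimage of an open with affine inclusion is affine. -/
theorem isAffineOpen_preimage_fromSpecStalk {X : Scheme.{u}} (U : X.Opens) [IsAffineHom U.ι] (x : X) :
    IsAffineOpen (X.fromSpecStalk x ⁻¹ᵁ U) := by
  have : IsAffineHom (X.fromSpecStalk x ⁻¹ᵁ U).ι :=
    MorphismProperty.of_isPullback (isPullback_morphismRestrict (X.fromSpecStalk x) U) inferInstance
  exact isAffine_of_isAffineHom (X.fromSpecStalk x ⁻¹ᵁ U).ι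

end GrothLib.AffCompl
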